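import Mathlib.LinearAlgebra.FiniteDimensional.Lemmas
import Mathlib.LinearAlgebra.Matrix.NonsingularInverse
import Mathlib.LinearAlgebra.Matrix.ToLin
import Mathlib.LinearAlgebra.Charpoly.Basic
import Mathlib.LinearAlgebra.Basis.VectorSpace
import Mathlib.FieldTheory.Minpoly.Field
import Mathlib.RingTheory.PrincipalIdealDomain
import Mathlib.RingTheory.UniqueFactorizationDomain.Multiplicative
import Mathlib.Algebra.Polynomial.FieldDivision

/-!
An endomorphism with centralizer of dimension `n` has a cyclic vector.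
-/

set_option autoImplicit false

universe u v

open Polynomial Module

namespace Groth.Agent.RegMatrix.Cyclic

variable {K : Type u} [Field K] {V : Type v} [AddCommGroup V] [Module K V] [FiniteDimensional K V] (f : Module.End K V)

theorem exists_ann (d : K[X]) (hd : d ∣ minpoly K f) :
    ∃ v : V, aeval f d v = 0 ∧ ∀ p : K[X], aeval f p v = 0 → d ∣ p := by
  classical
  have hμ : minpoly K f ≠ 0 := minpoly.ne_zero (Algebra.IsIntegral.isIntegral f)
  induction d using UniqueFactorizationMonoid.induction_on_coprime with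
  | h0 => exact absurd (zero_dvd_iff.1 hd) hμ
  | h1 hu => exact ⟨0, map_zero _, fun p _ => hu.dvd⟩
  | @hpr p e hp =>
    rcases e with - | e
    · exact ⟨0, map_zero _, fun q _ => by rw [pow_zero]; exact one_dvd q⟩
    obtain ⟨r, hr⟩ := hd
    have h1 : aeval f (p ^ e * r) ≠ 0 := fun h => by
      have h2 := minpoly.dvd K f h
      rw [hr, pow_succ, mul_right_comm] at h2
      have hne : p ^ e * r ≠ 0 := fun h0 => hμ (by rw [hr, pow_succ, mul_right_comm, h0, zero_mul])
      obtain ⟨c, hc⟩ := h2
      have h3 : (p ^ e * r) * (p * c) = (p ^ e * r) * 1 := by rw [mul_one, ← mul_assoc]; exact hc.symm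
      exact hp.not_unit (.of_mul_eq_one _ (mul_left_cancel₀ hne h3))
    obtain ⟨w, hw⟩ : ∃ w, aeval f (p ^ e * r) w ≠ 0 := by
      by_contra hcon
      push Not at hcon
      exact h1 (LinearMap.ext hcon)
    refine ⟨aeval f r w, ?_, fun q hq => ?_⟩
    · rw [← Module.End.mul_apply, ← map_mul, ← hr, minpoly.aeval, LinearMap.zero_apply]
    · by_contra hdiv
      have hkill : aeval f (EuclideanDomain.gcd q (p ^ (e + 1))) (aeval f r w) = 0 := by
        rw [EuclideanDomain.gcd_eq_gcd_ab q (p ^ (e + 1)), map_add, LinearMap.add_apply,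
          mul_comm q, mul_comm (p ^ (e + 1)), map_mul, map_mul, Module.End.mul_apply, Module.End.mul_apply, hq,
          map_zero, zero_add, ← Module.End.mul_apply (aeval f (p ^ (e + 1))), ← map_mul, ← hr, minpoly.aeval,
          LinearMap.zero_apply, map_zero]
      obtain ⟨i, hi, hassoc⟩ := (dvd_prime_pow hp _).1 (EuclideanDomain.gcd_dvd_right q (p ^ (e + 1)))
      have hie : i ≤ e := by
        by_contra hlt
        refine hdiv (dvd_trans ?_ (EuclideanDomain.gcd_dvd_left q (p ^ (e + 1))))
        obtain rfl : i = e + 1 := by omega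
        exact hassoc.symm.dvd
      obtain ⟨c, hc⟩ : EuclideanDomain.gcd q (p ^ (e + 1)) ∣ p ^ e := hassoc.dvd.trans (pow_dvd_pow p hie)
      exact hw (by rw [map_mul, Module.End.mul_apply, hc, mul_comm, map_mul, Module.End.mul_apply, hkill, map_zero])
  | @hcp a b hab iha ihb =>
    obtain ⟨va, ha0, ha⟩ := iha (dvd_trans (dvd_mul_right a b) hd)
    obtain ⟨vb, hb0, hb⟩ := ihb (dvd_trans (dvd_mul_left b a) hd)
    refine ⟨va + vb, ?_, fun q hq => ?_⟩
    · rw [map_add, map_mul, Module.End.mul_apply, Module.End.mul_apply, ← Module.End.mul_apply (aeval f a),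
        ← map_mul, mul_comm a b, map_mul, Module.End.mul_apply, ha0, hb0, map_zero, map_zero, add_zero]
    · rw [map_add] at hq
      have e1 : aeval f (q * b) va = 0 := by
        have := congrArg (aeval f b) hq
        rw [map_add, ← Module.End.mul_apply, ← Module.End.mul_apply, ← map_mul, map_zero, mul_comm b q,
          map_mul _ q b, Module.End.mul_apply (aeval f q) (aeval f b) vb, hb0, map_zero, add_zero] at this
        rw [map_mul]
        exact this
      have e2 : aeval f (q * a) vb = 0 := by
        have := congrArg (aeval f a) hq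
        rw [map_add, ← Module.End.mul_apply, ← Module.End.mul_apply, ← map_mul, map_zero, mul_comm a q,
          map_mul _ q a, Module.End.mul_apply (aeval f q) (aeval f a) va, ha0, map_zero, zero_add] at this
        rw [map_mul]
        exact this
      exact (hab.isCoprime).mul_dvd ((hab.isCoprime).dvd_of_dvd_mul_right (ha _ e1))
        ((hab.isCoprime).symm.dvd_of_dvd_mul_right (hb _ e2))

/-- a cyclic vector exists if only `dim V` dimensions commute with `f` -/
theorem exists_cyclic (h : Module.finrank K (Subalgebra.centralizer K ({f} : Set (Module.End K V))) ≤ Module.finrank K V) :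
    ∃ v : V, LinearIndependent K (fun i : Fin (Module.finrank K V) => (f ^ (i : ℕ)) v) := by
  classical
  obtain ⟨v, hv0, hv⟩ := exists_ann f (minpoly K f) dvd_rfl
  set μ := minpoly K f with hμdef
  have hmonic : μ.Monic := minpoly.monic (Algebra.IsIntegral.isIntegral f)
  let m := μ.natDegree
  -- low degree polynomial in `f` from coefficients
  let comb : (Fin m → K) → K[X] := fun c => ∑ i, C (c i) * X ^ (i : ℕ)
  let T : V → ((Fin m → K) →ₗ[K] V) := fun w => Fintype.linearCombination K (fun i : Fin m => (f ^ (i : ℕ)) w)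
  have hT : ∀ w c, T w c = aeval f (comb c) w := fun w c => by
    simp [T, comb, Fintype.linearCombination_apply, map_sum, LinearMap.sum_apply, Module.End.mul_apply, Algebra.algebraMap_eq_smul_one]
  have hcoef : ∀ (c : Fin m → K) (i : Fin m), (comb c).coeff i = c i := fun c i => by
    simp [comb, Polynomial.finsetSum_coeff, Polynomial.coeff_C_mul, Polynomial.coeff_X_pow, Fin.val_inj]
  have hlt : ∀ c : Fin m → K, comb c = 0 ∨ (comb c).natDegree < m := fun c => by
    by_cases h0 : comb c = 0
    · exact Or.inl h0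
    · refine Or.inr ((Polynomial.natDegree_lt_iff_degree_lt h0).2 ?_)
      exact lt_of_le_of_lt (Polynomial.degree_sum_le _ _) ((Finset.sup_lt_iff (WithBot.bot_lt_coe _)).2 fun i _ =>
        lt_of_le_of_lt (Polynomial.degree_C_mul_X_pow_le _ _) (WithBot.coe_lt_coe.2 i.2))
  have hinj : Function.Injective (T v) := by
    rw [← LinearMap.ker_eq_bot, LinearMap.ker_eq_bot']
    intro c hc
    rw [hT] at hc
    rcases hlt c with h0 | h0
    · funext i; rw [← hcoef c i, h0]; simp
    · have := Polynomial.eq_zero_of_dvd_of_natDegree_lt (hv _ hc) h0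
      funext i; rw [← hcoef c i, this]; simp
  have hmn : m ≤ Module.finrank K V := by
    simpa using LinearMap.finrank_le_finrank_of_injective hinj
  rcases hmn.lt_or_eq with hmn | hmn
  swap
  · refine ⟨v, ?_⟩
    have hli : LinearIndependent K (fun i : Fin m => (f ^ (i : ℕ)) v) :=
      Fintype.linearIndependent_iff.2 fun c hc i => congrFun (hinj (a₁ := c) (a₂ := 0) (by simpa [T, Fintype.linearCombination_apply] using hc)) i
    exact hli.comp (Fin.cast hmn.symm) (Fin.cast_injective _)
  exfalso
  -- reduction of polynomials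
  have hred : ∀ (p : K[X]) (w : V), aeval f p w = aeval f (p %ₘ μ) w := fun p w => by
    conv_lhs => rw [← Polynomial.modByMonic_add_div p μ]
    simp [hμdef, minpoly.aeval]
  let co : K[X] → (Fin m → K) := fun p i => (p %ₘ μ).coeff i
  have hcomb : ∀ p, comb (co p) = p %ₘ μ := fun p => by
    ext j
    by_cases hj : j < m
    · exact hcoef (co p) ⟨j, hj⟩
    · have h2 : (p %ₘ μ).coeff j = 0 := Polynomial.coeff_eq_zero_of_degree_lt
        (lt_of_lt_of_le (Polynomial.degree_modByMonic_lt p hmonic) (Polynomial.degree_le_natDegree.trans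
          (WithBot.coe_le_coe.2 (not_lt.1 hj))))
      rw [h2]
      simp [comb, Polynomial.finsetSum_coeff, Polynomial.coeff_C_mul, Polynomial.coeff_X_pow]
      exact Finset.sum_eq_zero fun i _ => if_neg (by have := i.2; omega)
  obtain ⟨L, hL⟩ := (T v).exists_leftInverse_of_injective (LinearMap.ker_eq_bot.2 hinj)
  have hLv : ∀ p, L (aeval f p v) = co p := fun p => by
    rw [hred, ← hcomb, ← hT]
    exact LinearMap.congr_fun hL (co p)
  haveI : Nontrivial V := Module.nontrivial_of_finrank_pos (R := K) (by omega)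
  have hm0 : 0 < m := minpoly.natDegree_pos (Algebra.IsIntegral.isIntegral f) |>.trans_le le_rfl
  let lam : V →ₗ[K] K := (LinearMap.proj (⟨m - 1, by omega⟩ : Fin m)).comp L
  let S : V →ₗ[K] (Fin m → K) := LinearMap.pi fun i : Fin m => lam.comp (f ^ (i : ℕ))
  let U : Submodule K V := LinearMap.range (T v)
  let W : Submodule K V := LinearMap.ker S
  have hWp : ∀ w ∈ W, ∀ p : K[X], lam (aeval f p w) = 0 := fun w hw p => by
    rw [hred, ← hcomb, ← hT]
    simp only [T, Fintype.linearCombination_apply, map_sum, map_smul]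
    exact Finset.sum_eq_zero fun i _ => by
      have h2 : S w i = 0 := by rw [LinearMap.mem_ker.1 hw]; rfl
      rw [show lam ((f ^ (i : ℕ)) w) = 0 from h2, smul_zero]
  have hWf : ∀ w ∈ W, f w ∈ W := fun w hw => LinearMap.mem_ker.2 (funext fun i => by
    have h2 := hWp w hw (X ^ ((i : ℕ) + 1))
    rw [map_pow, aeval_X, pow_succ] at h2
    exact h2)
  have hdisj : Disjoint U W := Submodule.disjoint_def.2 fun u ⟨c, hc⟩ hu => by
    subst hc
    rw [hT] at hu ⊢
    by_contra hne
    have h0 : comb c ≠ 0 := fun h0 => hne (by rw [h0, map_zero, LinearMap.zero_apply])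
    have hd : (comb c).natDegree < m := (hlt c).resolve_left h0
    have h2 := hWp _ hu (X ^ (m - 1 - (comb c).natDegree))
    rw [← Module.End.mul_apply, ← map_mul] at h2
    have h3 : co (X ^ (m - 1 - (comb c).natDegree) * comb c) ⟨m - 1, by omega⟩ = 0 := by
      rw [← hLv]; exact h2
    have hdeg : (X ^ (m - 1 - (comb c).natDegree) * comb c).degree < μ.degree := by
      rw [Polynomial.degree_mul, Polynomial.degree_X_pow, Polynomial.degree_eq_natDegree h0,
        Polynomial.degree_eq_natDegree hmonic.ne_zero]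
      exact WithBot.coe_lt_coe.2 (by show m - 1 - (comb c).natDegree + (comb c).natDegree < μ.natDegree; omega)
    rw [show co (X ^ (m - 1 - (comb c).natDegree) * comb c) ⟨m - 1, by omega⟩ =
      ((X ^ (m - 1 - (comb c).natDegree) * comb c) %ₘ μ).coeff (m - 1) from rfl,
      (Polynomial.modByMonic_eq_self_iff hmonic).2 hdeg, Polynomial.coeff_X_pow_mul'] at h3
    rw [if_pos (by omega), show m - 1 - (m - 1 - (comb c).natDegree) = (comb c).natDegree by omega] at h3
    exact h0 (Polynomial.leadingCoeff_eq_zero.1 h3)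
  have hdimW : Module.finrank K V ≤ m + Module.finrank K W := by
    have := LinearMap.finrank_range_add_finrank_ker S
    have h2 := Submodule.finrank_le (LinearMap.range S)
    rw [Module.finrank_fin_fun] at h2
    change _ + Module.finrank K W = _ at this
    omega
  have hUW : IsCompl U W := by
    refine ⟨hdisj, codisjoint_iff.2 (Submodule.eq_top_of_finrank_eq ?_)⟩
    have h1 := Submodule.finrank_sup_add_finrank_inf_eq U W
    rw [disjoint_iff.1 hdisj, finrank_bot, add_zero, LinearMap.finrank_range_of_inj hinj, Module.finrank_fin_fun] at h1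
    have h2 := Submodule.finrank_le (U ⊔ W)
    omega
  let pU : V →ₗ[K] V := U.subtype.comp (U.projectionOnto W hUW)
  have hpU : ∀ u ∈ U, pU u = u := fun u hu => by
    show ((U.projectionOnto W hUW u : U) : V) = u
    rw [show u = ((⟨u, hu⟩ : U) : V) from rfl, Submodule.projectionOnto_apply_left]
  have hpW : ∀ w ∈ W, pU w = 0 := fun w hw => by
    show ((U.projectionOnto W hUW w : U) : V) = 0
    rw [(Submodule.projectionOnto_apply_eq_zero_iff hUW).2 hw]; rfl
  have hpUv : ∀ p, pU (aeval f p v) = aeval f p v := fun p => hpU _ ⟨co p, by rw [hT, hcomb, ← hred]⟩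
  let ψ : V → Module.End K V := fun w => (T w).comp (L.comp pU)
  have hψv : ∀ (w : V) (p : K[X]), ψ w (aeval f p v) = aeval f p w := fun w p => by
    show T w (L (pU (aeval f p v))) = _
    rw [hpUv, hLv, hT, hcomb, ← hred]
  have hdec : ∀ x, ∃ (p : K[X]) (w : V), w ∈ W ∧ x = aeval f p v + w := fun x => by
    obtain ⟨u, ⟨c, hc⟩, w, hw, hx⟩ := Submodule.mem_sup.1 (hUW.sup_eq_top.ge (Submodule.mem_top (x := x)))
    exact ⟨comb c, w, hw, by rw [← hT, hc, hx]⟩
  have hψW : ∀ w, ∀ x ∈ W, ψ w x = 0 := fun w x hx => by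
    show T w (L (pU x)) = 0
    rw [hpW x hx, map_zero, map_zero]
  let Z := Subalgebra.centralizer K ({f} : Set (Module.End K V))
  have hψmem : ∀ w, ψ w ∈ Z := fun w => (Subalgebra.mem_centralizer_iff K).2 fun g hg => by
    rw [Set.mem_singleton_iff.1 hg]
    refine LinearMap.ext fun x => ?_
    obtain ⟨p, y, hy, rfl⟩ := hdec x
    have e : ∀ z : V, f (aeval f p z) = aeval f (X * p) z := fun z => by rw [map_mul, aeval_X, Module.End.mul_apply]
    rw [Module.End.mul_apply, Module.End.mul_apply, map_add, map_add, map_add, map_add, hψv, hψW w y hy, map_zero,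
      e v, hψv, hψW w (f y) (hWf y hy), add_zero, e w, add_zero]
  let ev : Z →ₗ[K] V := (LinearMap.applyₗ v).comp Z.val.toLinearMap
  have hsurj : LinearMap.range ev = ⊤ := LinearMap.range_eq_top.2 fun w => ⟨⟨ψ w, hψmem w⟩, by
    show ψ w v = w
    simpa using hψv w 1⟩
  let pr : Module.End K V := 1 - ψ v
  have hprmem : pr ∈ Z := sub_mem (one_mem _) (hψmem v)
  have hker : LinearMap.ker ev ≠ ⊥ := by
    intro h0
    have hz : (⟨pr, hprmem⟩ : Z) = 0 := by
      have : (⟨pr, hprmem⟩ : Z) ∈ LinearMap.ker ev := LinearMap.mem_ker.2 (by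
        show v - ψ v v = 0
        have := hψv v 1
        simp at this
        rw [this, sub_self])
      rwa [h0, Submodule.mem_bot] at this
    have hW0 : W = ⊥ := (Submodule.eq_bot_iff _).2 fun y hy => by
      have h2 := LinearMap.congr_fun (congrArg Subtype.val hz) y
      change y - ψ v y = 0 at h2
      rwa [hψW v y hy, sub_zero] at h2
    rw [hW0, finrank_bot] at hdimW
    omega
  have := LinearMap.finrank_range_add_finrank_ker ev
  rw [hsurj, finrank_top] at this
  have hpos : 0 < Module.finrank K (LinearMap.ker ev) :=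
    Nat.pos_of_ne_zero fun h0 => hker (Submodule.finrank_eq_zero.1 h0)
  change Module.finrank K Z ≤ _ at h
  omega

end Groth.Agent.RegMatrix.Cyclic
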