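import Groth.Agent.RegMatrix.Cyclic
import Mathlib.LinearAlgebra.Matrix.MvPolynomial
import Mathlib.RingTheory.Flat.Basic
import Mathlib.RingTheory.Flat.Stability
import Mathlib.RingTheory.Localization.Away.Basic
import Mathlib.RingTheory.Ideal.Quotient.Basic
import Mathlib.RingTheory.Flat.Localization
import Mathlib.Tactic.NoncommRing

/-!
Fibrewise regular matrices: commutative and flat centralizers.
-/

set_option autoImplicit false

universe u

open Matrix

namespace Groth.Agent.RegMatrix.Main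

variable {n : ℕ}

/-- Krylov matrix -/
def kry {B : Type*} [CommRing B] (g : Matrix (Fin n) (Fin n) B) (v : Fin n → B) : Matrix (Fin n) (Fin n) B :=
  Matrix.of fun i j => ((g ^ (j : ℕ)) *ᵥ v) i

theorem kry_map {B B' : Type*} [CommRing B] [CommRing B'] (φ : B →+* B') (g : Matrix (Fin n) (Fin n) B)
    (v : Fin n → B) : (kry g v).map φ = kry (g.map φ) (φ ∘ v) := by
  ext i j
  show φ (((g ^ (j : ℕ)) *ᵥ v) i) = (((g.map φ) ^ (j : ℕ)) *ᵥ (φ ∘ v)) i
  rw [RingHom.map_mulVec, Matrix.map_pow]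

theorem exists_kry_ne_zero {K : Type u} [Field K] (g : Matrix (Fin n) (Fin n) K)
    (h : Module.finrank K (Subalgebra.centralizer K ({g} : Set (Matrix (Fin n) (Fin n) K))) = n) :
    ∃ v : Fin n → K, (kry g v).det ≠ 0 := by
  let e : Matrix (Fin n) (Fin n) K ≃ₐ[K] Module.End K (Fin n → K) := Matrix.toLinAlgEquiv'
  let T : (Subalgebra.centralizer K ({e g} : Set (Module.End K (Fin n → K)))) →ₗ[K]
      (Subalgebra.centralizer K ({g} : Set (Matrix (Fin n) (Fin n) K))) :=
    LinearMap.codRestrict (Subalgebra.centralizer K ({g} : Set (Matrix (Fin n) (Fin n) K))).toSubmodule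
      (e.symm.toLinearMap ∘ₗ (Subalgebra.centralizer K ({e g} : Set (Module.End K (Fin n → K)))).val.toLinearMap)
      fun x => (Subalgebra.mem_centralizer_iff K).2 fun y hy => by
        rw [Set.mem_singleton_iff.1 hy]
        apply e.injective
        show e (g * e.symm x.1) = e (e.symm x.1 * g)
        rw [map_mul, map_mul, AlgEquiv.apply_symm_apply]
        exact (Subalgebra.mem_centralizer_iff K).1 x.2 _ rfl
  have hT : Function.Injective T := fun a b hab => Subtype.ext (e.symm.injective (congrArg Subtype.val hab))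
  obtain ⟨v, hv⟩ := Groth.Agent.RegMatrix.Cyclic.exists_cyclic (e g) (by
    refine (LinearMap.finrank_le_finrank_of_injective hT).trans ?_
    rw [h, Module.finrank_fin_fun])
  refine ⟨v, fun hdet => ?_⟩
  have hcols : LinearIndependent K (fun j : Fin n => fun i => kry g v i j) := by
    have h2 := hv.comp (Fin.cast (Module.finrank_fin_fun K).symm) (Fin.cast_injective _)
    have he : (fun j : Fin n => fun i => kry g v i j) =
        (fun i : Fin (Module.finrank K (Fin n → K)) => ((e g) ^ (i : ℕ)) v) ∘ Fin.cast (Module.finrank_fin_fun K).symm := by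
      funext j
      show (g ^ (j : ℕ)) *ᵥ v = ((e g) ^ (j : ℕ)) v
      rw [← map_pow]
      exact (Matrix.toLinAlgEquiv'_apply (g ^ (j : ℕ)) v).symm
    rw [he]
    exact h2
  have := Matrix.linearIndependent_cols_iff_isUnit.1 hcols
  rw [Matrix.isUnit_iff_isUnit_det] at this
  exact this.ne_zero hdet

theorem exists_kry_notMem (A : Type u) [CommRing A] (g : Matrix (Fin n) (Fin n) A)
    (hreg : ∀ (K : Type u) [Field K] (φ : A →+* K),
      Module.finrank K (Subalgebra.centralizer K ({g.map φ} : Set (Matrix (Fin n) (Fin n) K))) = n)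
    {B : Type u} [CommRing B] (ι : A →+* B) (q : Ideal B) [q.IsMaximal] :
    ∃ v : Fin n → B, (kry (g.map ι) v).det ∉ q := by
  letI := Ideal.Quotient.field q
  obtain ⟨v, hv⟩ := exists_kry_ne_zero _ (hreg (B ⧸ q) ((Ideal.Quotient.mk q).comp ι))
  choose w hw using fun i => Ideal.Quotient.mk_surjective (I := q) (v i)
  refine ⟨w, fun hmem => hv ?_⟩
  rw [show v = Ideal.Quotient.mk q ∘ w from funext fun i => (hw i).symm, RingHom.coe_comp, ← Matrix.map_map, ← kry_map,
    ← RingHom.mapMatrix_apply, ← RingHom.map_det, Ideal.Quotient.eq_zero_iff_mem]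
  exact hmem

variable {B : Type*} [CommRing B] (g : Matrix (Fin n) (Fin n) B) (v : Fin n → B)

noncomputable def pol (u : Fin n → B) : Matrix (Fin n) (Fin n) B :=
  ∑ j : Fin n, ((kry g v).adjugate *ᵥ u) j • g ^ (j : ℕ)

theorem pol_comm_pow (u : Fin n → B) (j : ℕ) : Commute (pol g v u) (g ^ j) :=
  Commute.sum_left _ _ _ fun i _ => (Commute.pow_pow_self g _ _).smul_left _

theorem pol_comm (u u' : Fin n → B) : Commute (pol g v u) (pol g v u') :=
  Commute.sum_right _ _ _ fun i _ => (pol_comm_pow g v u i).smul_right _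

theorem pol_v (u : Fin n → B) : pol g v u *ᵥ v = (kry g v).det • u := by
  have : pol g v u *ᵥ v = kry g v *ᵥ ((kry g v).adjugate *ᵥ u) := by
    rw [pol, Matrix.sum_mulVec]
    ext i
    rw [Finset.sum_apply]
    simp only [Matrix.smul_mulVec, Pi.smul_apply, smul_eq_mul]
    show _ = ∑ j, kry g v i j * _
    exact Finset.sum_congr rfl fun j _ => mul_comm _ _
  rw [this, Matrix.mulVec_mulVec, Matrix.mul_adjugate, Matrix.smul_mulVec, Matrix.one_mulVec]

theorem eq_zero_of_kills {Y : Matrix (Fin n) (Fin n) B} (hY : ∀ j : Fin n, Y *ᵥ ((g ^ (j : ℕ)) *ᵥ v) = 0) :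
    (kry g v).det • Y = 0 := by
  have h : Y * kry g v = 0 := by
    ext i j
    exact congrFun (hY j) i
  calc (kry g v).det • Y = Y * (kry g v * (kry g v).adjugate) := by rw [Matrix.mul_adjugate, Matrix.mul_smul, mul_one]
    _ = 0 := by rw [← mul_assoc, h, zero_mul]

theorem sq_smul {x : Matrix (Fin n) (Fin n) B} (hx : x * g = g * x) :
    (kry g v).det ^ 2 • x = (kry g v).det • pol g v (x *ᵥ v) := by
  have h := eq_zero_of_kills g v (Y := (kry g v).det • x - pol g v (x *ᵥ v)) fun j => by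
    have hc : Commute ((kry g v).det • x - pol g v (x *ᵥ v)) (g ^ (j : ℕ)) :=
      Commute.sub_left ((Commute.pow_right hx j).smul_left _) (pol_comm_pow g v _ j)
    rw [Matrix.mulVec_mulVec, hc.eq, ← Matrix.mulVec_mulVec, Matrix.sub_mulVec, pol_v, Matrix.smul_mulVec, sub_self,
      Matrix.mulVec_zero]
  rw [smul_sub, sub_eq_zero, smul_smul] at h
  rw [sq]
  exact h

theorem comm_of_regular (A : Type u) [CommRing A] (g : Matrix (Fin n) (Fin n) A)
    (hreg : ∀ (K : Type u) [Field K] (φ : A →+* K),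
      Module.finrank K (Subalgebra.centralizer K ({g.map φ} : Set (Matrix (Fin n) (Fin n) K))) = n)
    (B : Type u) [CommRing B] [Algebra A B] (x y : Matrix (Fin n) (Fin n) B)
    (hxg : x * g.map (algebraMap A B) = g.map (algebraMap A B) * x)
    (hyg : y * g.map (algebraMap A B) = g.map (algebraMap A B) * y) : x * y = y * x := by
  let I : Ideal B := LinearMap.ker (LinearMap.toSpanSingleton B _ (x * y - y * x))
  suffices h : I = ⊤ by
    have h1 : (1 : B) ∈ I := h ▸ Submodule.mem_top
    rw [LinearMap.mem_ker, LinearMap.toSpanSingleton_apply, one_smul, sub_eq_zero] at h1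
    exact h1
  by_contra hI
  obtain ⟨q, hq, hle⟩ := Ideal.exists_le_maximal I hI
  obtain ⟨v, hv⟩ := exists_kry_notMem A g hreg (algebraMap A B) q
  set d := (kry (g.map (algebraMap A B)) v).det with hd
  have h : (d ^ 2 * d ^ 2) • (x * y - y * x) = 0 := by
    rw [smul_sub, ← smul_mul_smul_comm, ← smul_mul_smul_comm, sq_smul _ v hxg, sq_smul _ v hyg, smul_mul_smul_comm,
      smul_mul_smul_comm, (pol_comm _ _ _ _).eq, sub_self]
  have hm := hle (show d ^ 2 * d ^ 2 ∈ I from h)
  rw [← pow_add] at hm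
  exact hv (hq.isPrime.mem_of_pow_mem _ hm)

/-! the splitting -/

/-- commutator with `g` -/
noncomputable def ad : Matrix (Fin n) (Fin n) B →ₗ[B] Matrix (Fin n) (Fin n) B :=
  LinearMap.mulRight B g - LinearMap.mulLeft B g

theorem ad_apply (X : Matrix (Fin n) (Fin n) B) : ad g X = X * g - g * X := rfl

noncomputable def tele : ℕ → (Matrix (Fin n) (Fin n) B →ₗ[B] Matrix (Fin n) (Fin n) B)
  | 0 => 0
  | j + 1 => LinearMap.mulRight B g ∘ₗ tele j + LinearMap.mulLeft B (g ^ j)

theorem tele_ad (X : Matrix (Fin n) (Fin n) B) : ∀ j, tele g j (ad g X) = X * g ^ j - g ^ j * X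
  | 0 => by simp [tele]
  | j + 1 => by
    rw [tele, LinearMap.add_apply, LinearMap.comp_apply, LinearMap.mulRight_apply, LinearMap.mulLeft_apply, tele_ad X j,
      ad_apply, pow_succ]
    noncomm_ring

noncomputable def inv0 : Matrix (Fin n) (Fin n) B →ₗ[B] Matrix (Fin n) (Fin n) B where
  toFun Y := Matrix.of (fun i (j : Fin n) => (tele g j Y *ᵥ v) i) * (kry g v).adjugate
  map_add' Y Z := by
    rw [← Matrix.add_mul]
    congr 1
    ext i j
    simp [Matrix.add_mulVec]
  map_smul' c Y := by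
    rw [RingHom.id_apply, ← Matrix.smul_mul]
    congr 1
    ext i j
    simp [Matrix.smul_mulVec]

theorem ad_inv_ad (X : Matrix (Fin n) (Fin n) B) :
    ad g ((kry g v).det • inv0 g v (ad g X)) = (kry g v).det ^ 2 • ad g X := by
  let R : Matrix (Fin n) (Fin n) B := Matrix.of fun i j => ((g ^ (j : ℕ)) *ᵥ (X *ᵥ v)) i
  have h1 : Matrix.of (fun i (j : Fin n) => (tele g j (ad g X) *ᵥ v) i) = X * kry g v - R := by
    ext i j
    rw [Matrix.of_apply, tele_ad, Matrix.sub_mulVec, Pi.sub_apply, Matrix.sub_apply, ← Matrix.mulVec_mulVec,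
      ← Matrix.mulVec_mulVec]
    rfl
  have h2 : (kry g v).det • R = pol g v (X *ᵥ v) * kry g v := by
    ext i j
    rw [Matrix.smul_apply]
    show (kry g v).det • ((g ^ (j : ℕ)) *ᵥ (X *ᵥ v)) i = (pol g v (X *ᵥ v) *ᵥ ((g ^ (j : ℕ)) *ᵥ v)) i
    rw [Matrix.mulVec_mulVec _ (pol g v (X *ᵥ v)), (pol_comm_pow g v _ j).eq, ← Matrix.mulVec_mulVec v, pol_v,
      Matrix.mulVec_smul, Pi.smul_apply]
  have h3 : (kry g v).det • inv0 g v (ad g X) = (kry g v).det ^ 2 • X - (kry g v).det • pol g v (X *ᵥ v) := by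
    show (kry g v).det • (Matrix.of _ * (kry g v).adjugate) = _
    rw [h1, sub_mul, smul_sub, ← Matrix.smul_mul _ R, h2, mul_assoc, mul_assoc, Matrix.mul_adjugate, Matrix.mul_smul,
      Matrix.mul_smul, mul_one, mul_one, smul_smul, sq]
  rw [h3, map_sub, map_smul, map_smul, show ad g (pol g v (X *ᵥ v)) = 0 by
    rw [ad_apply]; have := (pol_comm_pow g v (X *ᵥ v) 1).eq; rw [pow_one] at this; rw [this, sub_self], smul_zero, sub_zero]

theorem exists_split (A : Type u) [CommRing A] (g : Matrix (Fin n) (Fin n) A)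
    (hreg : ∀ (K : Type u) [Field K] (φ : A →+* K),
      Module.finrank K (Subalgebra.centralizer K ({g.map φ} : Set (Matrix (Fin n) (Fin n) K))) = n) :
    ∃ F : Matrix (Fin n) (Fin n) A →ₗ[A] Matrix (Fin n) (Fin n) A, ∀ X, ad g (F (ad g X)) = ad g X := by
  let I : Ideal A :=
    { carrier := {a | ∃ F : Matrix (Fin n) (Fin n) A →ₗ[A] Matrix (Fin n) (Fin n) A, ∀ X, ad g (F (ad g X)) = a • ad g X}
      add_mem' := fun {a b} ⟨F, hF⟩ ⟨G, hG⟩ => ⟨F + G, fun X => by rw [LinearMap.add_apply, map_add, hF, hG, add_smul]⟩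
      zero_mem' := ⟨0, fun X => by simp⟩
      smul_mem' := fun c a ⟨F, hF⟩ => ⟨c • F, fun X => by
        rw [LinearMap.smul_apply, map_smul, hF, smul_eq_mul, smul_smul]⟩ }
  suffices h : I = ⊤ by
    obtain ⟨F, hF⟩ := (h ▸ Submodule.mem_top : (1 : A) ∈ I)
    exact ⟨F, fun X => by rw [hF, one_smul]⟩
  by_contra hI
  obtain ⟨q, hq, hle⟩ := Ideal.exists_le_maximal I hI
  obtain ⟨v, hv⟩ := exists_kry_notMem A g hreg (RingHom.id A) q
  rw [show g.map (RingHom.id A) = g by ext i j; rfl] at hv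
  exact hv (hq.isPrime.mem_of_pow_mem 2 (hle ⟨(kry g v).det • inv0 g v, fun X => by
    rw [LinearMap.smul_apply]; exact ad_inv_ad g v X⟩))

/-- scalar extension of a map of matrix spaces -/
noncomputable def ext' {A S : Type*} [CommRing A] [CommRing S] (φ : A →+* S)
    (F : Matrix (Fin n) (Fin n) A →ₗ[A] Matrix (Fin n) (Fin n) A) :
    Matrix (Fin n) (Fin n) S →ₗ[S] Matrix (Fin n) (Fin n) S where
  toFun Y := ∑ k : Fin n, ∑ l : Fin n, Y k l • (F (Matrix.single k l 1)).map φ
  map_add' Y Z := by simp [add_smul, Finset.sum_add_distrib]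
  map_smul' c Y := by simp [Finset.smul_sum, smul_smul]

theorem ext'_map {A S : Type*} [CommRing A] [CommRing S] (φ : A →+* S)
    (F : Matrix (Fin n) (Fin n) A →ₗ[A] Matrix (Fin n) (Fin n) A) (X : Matrix (Fin n) (Fin n) A) :
    ext' φ F (X.map φ) = (F X).map φ := by
  conv_rhs => rw [Matrix.matrix_eq_sum_single X]
  simp only [map_sum]
  ext i j
  simp [ext', Matrix.sum_apply]
  refine Finset.sum_congr rfl fun k _ => Finset.sum_congr rfl fun l _ => ?_
  rw [← map_mul]
  congr 1
  conv_rhs => rw [show Matrix.single k l (X k l) = X k l • Matrix.single k l (1 : A) by simp [Matrix.smul_single], map_smul]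
  rfl

theorem ad_map {A S : Type*} [CommRing A] [CommRing S] (φ : A →+* S) (g X : Matrix (Fin n) (Fin n) A) :
    ad (g.map φ) (X.map φ) = (ad g X).map φ := by
  simp only [ad_apply, Matrix.map_sub φ φ.map_sub, Matrix.map_mul]

theorem split_ext {A S : Type*} [CommRing A] [CommRing S] (φ : A →+* S) (g : Matrix (Fin n) (Fin n) A)
    {F : Matrix (Fin n) (Fin n) A →ₗ[A] Matrix (Fin n) (Fin n) A} (hF : ∀ X, ad g (F (ad g X)) = ad g X)
    (Y : Matrix (Fin n) (Fin n) S) : ad (g.map φ) (ext' φ F (ad (g.map φ) Y)) = ad (g.map φ) Y := by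
  have hs : ∀ k l : Fin n, (Matrix.single k l (1 : S)) = (Matrix.single k l (1 : A)).map φ := fun k l => by
    ext i j; simp [Matrix.single, apply_ite φ]
  rw [Matrix.matrix_eq_sum_single Y]
  simp only [map_sum]
  refine Finset.sum_congr rfl fun k _ => Finset.sum_congr rfl fun l _ => ?_
  rw [show Matrix.single k l (Y k l) = Y k l • Matrix.single k l (1 : S) by simp [Matrix.smul_single], map_smul, map_smul,
    map_smul, hs, ad_map, ext'_map, ad_map, hF]

theorem flat_quot (A : Type u) [CommRing A] (g : Matrix (Fin n) (Fin n) A)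
    (hreg : ∀ (K : Type u) [Field K] (φ : A →+* K),
      Module.finrank K (Subalgebra.centralizer K ({g.map φ} : Set (Matrix (Fin n) (Fin n) K))) = n) :
    Module.Flat A (MvPolynomial (Fin n × Fin n) A ⧸ Ideal.span (Set.range fun ij : Fin n × Fin n =>
      (Matrix.mvPolynomialX (Fin n) (Fin n) A * g.map MvPolynomial.C -
        g.map MvPolynomial.C * Matrix.mvPolynomialX (Fin n) (Fin n) A : Matrix (Fin n) (Fin n) (MvPolynomial (Fin n × Fin n) A))
        ij.1 ij.2)) := by
  obtain ⟨F, hF⟩ := exists_split A g hreg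
  let P := MvPolynomial (Fin n × Fin n) A
  let X := Matrix.mvPolynomialX (Fin n) (Fin n) A
  let gC : Matrix (Fin n) (Fin n) P := g.map MvPolynomial.C
  let I : Ideal P := Ideal.span (Set.range fun ij : Fin n × Fin n => (X * gC - gC * X) ij.1 ij.2)
  let E := X - ext' MvPolynomial.C F (ad gC X)
  let Φ : P →ₐ[A] P := MvPolynomial.aeval fun ij : Fin n × Fin n => E ij.1 ij.2
  have hΦ : X.map Φ = E := Matrix.ext fun i j => MvPolynomial.aeval_X _ (i, j)
  have hgC : gC.map Φ = gC := Matrix.ext fun i j => MvPolynomial.aeval_C _ (g i j)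
  have hkill : ∀ a ∈ I, Φ a = 0 := fun a ha => by
    refine (Ideal.span_le (I := RingHom.ker Φ.toRingHom)).2 ?_ ha
    rintro _ ⟨ij, rfl⟩
    have h0 : (X * gC - gC * X).map Φ = 0 := by
      rw [Matrix.map_sub _ (map_sub Φ), Matrix.map_mul, Matrix.map_mul, hΦ, hgC]
      show ad gC E = 0
      rw [map_sub, split_ext MvPolynomial.C g hF, sub_self]
    exact congrFun (congrFun h0 ij.1) ij.2
  have hsplit : (Ideal.Quotient.mkₐ A I).comp Φ = Ideal.Quotient.mkₐ A I := MvPolynomial.algHom_ext fun ij => by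
    show Ideal.Quotient.mk I (Φ (MvPolynomial.X ij)) = Ideal.Quotient.mk I (MvPolynomial.X ij)
    rw [Ideal.Quotient.eq, MvPolynomial.aeval_X]
    show E ij.1 ij.2 - X ij.1 ij.2 ∈ I
    simp only [E, Matrix.sub_apply, sub_sub_cancel_left, neg_mem_iff]
    show ext' MvPolynomial.C F (ad gC X) ij.1 ij.2 ∈ I
    simp only [ext', LinearMap.coe_mk, AddHom.coe_mk, Matrix.sum_apply, Matrix.smul_apply, smul_eq_mul]
    exact Submodule.sum_mem _ fun k _ => Submodule.sum_mem _ fun l _ =>
      Ideal.mul_mem_right _ _ (Ideal.subset_span ⟨(k, l), rfl⟩)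
  exact Module.Flat.of_retract (M := P) (Ideal.Quotient.liftₐ I Φ hkill).toLinearMap
    (Ideal.Quotient.mkₐ A I).toLinearMap (LinearMap.ext fun z => by
      obtain ⟨z, rfl⟩ := Ideal.Quotient.mk_surjective z
      exact AlgHom.congr_fun hsplit z)

theorem flat_centralizer (A : Type u) [CommRing A] (g : Matrix (Fin n) (Fin n) A)
    (hreg : ∀ (K : Type u) [Field K] (φ : A →+* K),
      Module.finrank K (Subalgebra.centralizer K ({g.map φ} : Set (Matrix (Fin n) (Fin n) K))) = n) :
    Module.Flat A (Localization.Away (Ideal.Quotient.mk (Ideal.span (Set.range fun ij : Fin n × Fin n =>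
      (Matrix.mvPolynomialX (Fin n) (Fin n) A * g.map MvPolynomial.C -
        g.map MvPolynomial.C * Matrix.mvPolynomialX (Fin n) (Fin n) A : Matrix (Fin n) (Fin n) (MvPolynomial (Fin n × Fin n) A))
        ij.1 ij.2)) (Matrix.mvPolynomialX (Fin n) (Fin n) A).det)) := by
  haveI := flat_quot A g hreg
  haveI : Module.Flat (MvPolynomial (Fin n × Fin n) A ⧸ Ideal.span (Set.range fun ij : Fin n × Fin n =>
      (Matrix.mvPolynomialX (Fin n) (Fin n) A * g.map MvPolynomial.C -
        g.map MvPolynomial.C * Matrix.mvPolynomialX (Fin n) (Fin n) A : Matrix (Fin n) (Fin n) (MvPolynomial (Fin n × Fin n) A))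
        ij.1 ij.2)) (Localization.Away (Ideal.Quotient.mk (Ideal.span (Set.range fun ij : Fin n × Fin n =>
      (Matrix.mvPolynomialX (Fin n) (Fin n) A * g.map MvPolynomial.C -
        g.map MvPolynomial.C * Matrix.mvPolynomialX (Fin n) (Fin n) A : Matrix (Fin n) (Fin n) (MvPolynomial (Fin n × Fin n) A))
        ij.1 ij.2)) (Matrix.mvPolynomialX (Fin n) (Fin n) A).det)) :=
    IsLocalization.flat _ (Submonoid.powers (Ideal.Quotient.mk (Ideal.span (Set.range fun ij : Fin n × Fin n =>
      (Matrix.mvPolynomialX (Fin n) (Fin n) A * g.map MvPolynomial.C -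
        g.map MvPolynomial.C * Matrix.mvPolynomialX (Fin n) (Fin n) A : Matrix (Fin n) (Fin n) (MvPolynomial (Fin n × Fin n) A))
        ij.1 ij.2)) (Matrix.mvPolynomialX (Fin n) (Fin n) A).det))
  exact Module.Flat.trans A (MvPolynomial (Fin n × Fin n) A ⧸ Ideal.span (Set.range fun ij : Fin n × Fin n =>
      (Matrix.mvPolynomialX (Fin n) (Fin n) A * g.map MvPolynomial.C -
        g.map MvPolynomial.C * Matrix.mvPolynomialX (Fin n) (Fin n) A : Matrix (Fin n) (Fin n) (MvPolynomial (Fin n × Fin n) A))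
        ij.1 ij.2)) _

end Groth.Agent.RegMatrix.Main
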